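import Mathlib.Data.Set.Card
import Mathlib.Data.Set.Finite.Lattice
import Mathlib.Algebra.BigOperators.Finprod
import Mathlib.Algebra.BigOperators.Ring.Finset
import Mathlib.LinearAlgebra.Dimension.Constructions
import Mathlib.LinearAlgebra.Dimension.Finite
import Mathlib.Tactic.Linarith
import Mathlib.Tactic.Ring
import Mathlib.Data.Rat.Cast.Order
import Mathlib.Algebra.Order.Field.Basic

/-!
# Elementary identities for incidence relations with constant pairwise intersection number
-/

set_option autoImplicit false

universe u v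

namespace Groth.Agent.Lib.Arrangement.Basic

variable {P : Type u} {ι : Type v} [Fintype ι] (inc : P → ι → Prop) {h : ℕ}
  (hfin : ∀ i j : ι, i ≠ j → {p : P | inc p i ∧ inc p j}.Finite)
  (hcount : ∀ i j : ι, i ≠ j → {p : P | inc p i ∧ inc p j}.ncard = h)

open Classical in
/-- The number of curves through a point. -/
noncomputable def r (p : P) : ℕ := (Finset.univ.filter fun j => inc p j).card

theorem card_eq_r (p : P) : Nat.card {j : ι // inc p j} = r inc p := by
  classical
  rw [Nat.card_eq_fintype_card, Fintype.card_subtype, r]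

include hfin in
theorem finite_multiple : {p : P | 2 ≤ r inc p}.Finite := by
  classical
  refine (Set.finite_iUnion fun i : ι => Set.finite_iUnion fun j : {j : ι // i ≠ j} => hfin i j.1 j.2).subset
    fun p hp => ?_
  obtain ⟨i, hi, j, hj, hij⟩ := Finset.one_lt_card.mp (show 1 < (Finset.univ.filter fun j => inc p j).card from hp)
  simp only [Finset.mem_filter, Finset.mem_univ, true_and] at hi hj
  exact Set.mem_iUnion₂.mpr ⟨i, ⟨j, hij⟩, hi, hj⟩

theorem two_le_of_mem {p : P} {i j : ι} (hij : i ≠ j) (hi : inc p i) (hj : inc p j) : 2 ≤ r inc p := by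
  classical
  exact Finset.one_lt_card.mpr ⟨i, by simp [hi], j, by simp [hj], hij⟩

open Classical in
include hfin hcount in
theorem card_filter_pair {M : Finset P} (hM : ∀ p, 2 ≤ r inc p → p ∈ M) {i j : ι} (hij : i ≠ j) :
    (M.filter fun p => inc p i ∧ inc p j).card = h := by
  rw [← hcount i j hij, Set.ncard_eq_toFinset_card _ (hfin i j hij)]
  congr 1
  ext p
  simp only [Finset.mem_filter, Set.Finite.mem_toFinset, Set.mem_ofPred_eq]
  exact ⟨fun h => h.2, fun h => ⟨hM p (two_le_of_mem inc hij h.1 h.2), h⟩⟩

open Classical in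
include hfin hcount in
/-- Points on a curve, counted with the number of other curves through them. -/
theorem sum_sub_one {M : Finset P} (hM : ∀ p, 2 ≤ r inc p → p ∈ M) (i : ι) :
    ∑ p ∈ M.filter (fun p => inc p i), (r inc p - 1) = h * (Fintype.card ι - 1) := by
  have h1 : ∀ p ∈ M.filter (fun p => inc p i),
      r inc p - 1 = ∑ j ∈ Finset.univ.erase i, if inc p j then 1 else 0 := by
    intro p hp
    rw [← Finset.card_filter, r, Finset.filter_erase, Finset.card_erase_of_mem (by simp [(Finset.mem_filter.mp hp).2])]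
  rw [Finset.sum_congr rfl h1, Finset.sum_comm, Finset.sum_congr rfl (g := fun _ => h) fun j hj => by
      rw [← Finset.card_filter, Finset.filter_filter]
      exact card_filter_pair inc hfin hcount hM (Finset.ne_of_mem_erase hj).symm,
    Finset.sum_const, Finset.card_erase_of_mem (Finset.mem_univ i), Finset.card_univ, smul_eq_mul, mul_comm]

open Classical in
include hfin hcount in
/-- The count of flags. -/
theorem sum_mul_sub_one {M : Finset P} (hM : ∀ p, 2 ≤ r inc p → p ∈ M) :
    ∑ p ∈ M, r inc p * (r inc p - 1) = h * (Fintype.card ι * (Fintype.card ι - 1)) := by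
  calc ∑ p ∈ M, r inc p * (r inc p - 1) = ∑ p ∈ M, ∑ i, if inc p i then (r inc p - 1) else 0 := by
        refine Finset.sum_congr rfl fun p _ => ?_
        rw [← Finset.sum_filter, Finset.sum_const, smul_eq_mul]; rfl
    _ = ∑ i, ∑ p ∈ M.filter (fun p => inc p i), (r inc p - 1) := by
        rw [Finset.sum_comm]; exact Finset.sum_congr rfl fun i _ => (Finset.sum_filter _ _).symm
    _ = _ := by
        rw [Finset.sum_congr rfl fun i _ => sum_sub_one inc hfin hcount hM i, Finset.sum_const, Finset.card_univ,
          smul_eq_mul]; ring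

open Classical in
include hfin hcount in
/-- Without a common point every curve carries more than `h` multiple points. -/
theorem lt_card_curve {M : Finset P} (hM : ∀ p, p ∈ M ↔ 2 ≤ r inc p) (hh : 0 < h)
    (hd : 2 ≤ Fintype.card ι) (hnone : ∀ p : P, ∃ i : ι, ¬ inc p i) (i : ι) :
    h < (M.filter fun p => inc p i).card := by
  obtain ⟨j, hj⟩ := Fintype.exists_ne_of_one_lt_card hd i
  have hc := card_filter_pair inc hfin hcount (fun p => (hM p).mpr) (M := M) hj.symm
  obtain ⟨p, hp⟩ := Finset.card_pos.mp (hc ▸ hh)
  simp only [Finset.mem_filter] at hp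
  obtain ⟨l, hl⟩ := hnone p
  have hli : i ≠ l := fun e => hl (e ▸ hp.2.1)
  rw [← card_filter_pair inc hfin hcount (fun p => (hM p).mpr) (M := M) hli]
  refine Finset.card_lt_card ⟨fun q hq => ?_, fun hsub => ?_⟩
  · simp only [Finset.mem_filter] at hq ⊢; exact ⟨hq.1, hq.2.1⟩
  · exact hl (Finset.mem_filter.mp (hsub (Finset.mem_filter.mpr ⟨hp.1, hp.2.1⟩))).2.2

open Classical in
include hfin hcount in
/-- Fisher's inequality. -/
theorem card_le {M : Finset P} (hM : ∀ p, p ∈ M ↔ 2 ≤ r inc p) (hh : 0 < h)
    (hd : 2 ≤ Fintype.card ι) (hnone : ∀ p : P, ∃ i : ι, ¬ inc p i) :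
    Fintype.card ι ≤ M.card := by
  let v : ι → ({p // p ∈ M} → ℚ) := fun i p => if inc p.1 i then 1 else 0
  have hgram : ∀ i j, ∑ p, v i p * v j p = ((M.filter fun p => inc p i ∧ inc p j).card : ℚ) := by
    intro i j
    rw [Finset.univ_eq_attach, Finset.sum_attach M (fun p => (if inc p i then (1 : ℚ) else 0) * if inc p j then 1 else 0),
      Finset.card_filter, Nat.cast_sum]
    exact Finset.sum_congr rfl fun p _ => by by_cases h1 : inc p i <;> by_cases h2 : inc p j <;> simp [h1, h2]
  have hli : LinearIndependent ℚ v := by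
    rw [Fintype.linearIndependent_iff]
    intro c hc
    have h0 : ∑ p, (∑ i, c i * v i p) * (∑ j, c j * v j p) = 0 :=
      Finset.sum_eq_zero fun p _ => by
        have := congrFun hc p
        simp only [Finset.sum_apply, Pi.smul_apply, smul_eq_mul, Pi.zero_apply] at this
        rw [this, zero_mul]
    have h1 : ∑ p, (∑ i, c i * v i p) * (∑ j, c j * v j p) =
        (h : ℚ) * (∑ i, c i) * (∑ j, c j) + ∑ i, (((M.filter fun p => inc p i).card : ℚ) - h) * (c i * c i) := by
      simp only [Finset.sum_mul, Finset.mul_sum]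
      rw [Finset.sum_comm, ← Finset.sum_add_distrib]
      refine Finset.sum_congr rfl fun i _ => ?_
      rw [Finset.sum_comm]
      have hterm : ∀ j, ∑ p, c j * v j p * (c i * v i p) = c i * c j * ((M.filter fun p => inc p i ∧ inc p j).card : ℚ) :=
        fun j => by rw [← hgram, Finset.mul_sum]; exact Finset.sum_congr rfl fun p _ => by ring
      rw [Finset.sum_congr rfl fun j _ => hterm j]
      rw [← Finset.add_sum_erase _ _ (Finset.mem_univ i), ← Finset.add_sum_erase _ _ (Finset.mem_univ i),
        Finset.sum_congr rfl (s₁ := Finset.univ.erase i) (g := fun j => (h : ℚ) * c j * c i) fun j hj => by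
          rw [card_filter_pair inc hfin hcount (fun p => (hM p).mpr) (Finset.ne_of_mem_erase hj).symm]; ring]
      simp only [and_self]
      ring
    intro i
    have hpos : ∀ j, 0 ≤ (((M.filter fun p => inc p j).card : ℚ) - h) * (c j * c j) := fun j =>
      mul_nonneg (sub_nonneg.mpr (by exact_mod_cast (lt_card_curve inc hfin hcount hM hh hd hnone j).le))
        (mul_self_nonneg _)
    have h2 : (((M.filter fun p => inc p i).card : ℚ) - h) * (c i * c i) = 0 := by
      have hsq : 0 ≤ (h : ℚ) * (∑ i, c i) * (∑ j, c j) := by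
        rw [mul_assoc]; exact mul_nonneg (Nat.cast_nonneg _) (mul_self_nonneg _)
      have h3 := Finset.single_le_sum (fun j _ => hpos j) (Finset.mem_univ i)
      have h4 := hpos i
      rw [h0] at h1
      linarith
    rcases mul_eq_zero.mp h2 with h5 | h5
    · have : (h : ℚ) < (M.filter fun p => inc p i).card := by exact_mod_cast lt_card_curve inc hfin hcount hM hh hd hnone i
      linarith
    · exact mul_self_eq_zero.mp h5
  have := hli.fintype_card_le_finrank
  rwa [Module.finrank_fintype_fun_eq_card, Fintype.card_coe] at this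

open Classical in
include hfin hcount in
/-- At least `h + 2` multiple points. -/
theorem add_two_le {M : Finset P} (hM : ∀ p, p ∈ M ↔ 2 ≤ r inc p) (hh : 0 < h)
    (hd : 2 ≤ Fintype.card ι) (hnone : ∀ p : P, ∃ i : ι, ¬ inc p i) : h + 2 ≤ M.card := by
  obtain ⟨i⟩ : Nonempty ι := Fintype.card_pos_iff.mp (by omega)
  obtain ⟨p, hp⟩ := Finset.card_pos.mp (Nat.zero_lt_of_lt (lt_card_curve inc hfin hcount hM hh hd hnone i))
  simp only [Finset.mem_filter] at hp
  obtain ⟨l, hl⟩ := hnone p
  have h1 := lt_card_curve inc hfin hcount hM hh hd hnone l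
  have h2 : (M.filter fun q => inc q l).card < M.card :=
    Finset.card_lt_card (Finset.filter_ssubset.mpr ⟨p, hp.1, hl⟩)
  omega

end Groth.Agent.Lib.Arrangement.Basic
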